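import Cfsg.Agent.Lib.SFourControl.Fusion
import Cfsg.Agent.Lib.PLocal.QdConverse
import Cfsg.Agent.S2761

/-!
The pair centre, Thompson subgroup in the sections of an `S₄`-free group.

Main results (namespace `Cfsg.Agent.SFourControl`): `centerFunctor`, `jFunctor`, `isCharPFunctor_pair`,
`image_pair`, `family_control`, `section_free`.
-/

set_option autoImplicit false
set_option linter.unusedSectionVars false

namespace Cfsg.Agent.SFourControl

open Cfsg (IsCharPFunctor inducedFunctor)
open PLocal

universe u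

/-- The centre, as a functor on groups. -/
def centerFunctor (Q : Type u) [Group Q] : Subgroup Q := Subgroup.center Q

/-- The Thompson subgroup, as a functor on groups. -/
def jFunctor (Q : Type u) [Group Q] : Subgroup Q := Cfsg.thompsonSubgroup 2 Q

/-- The two functors. -/
def pairSet : Set (∀ (Q : Type u) [Group Q], Subgroup Q) := {centerFunctor, jFunctor}

theorem isCharPFunctor_pair : ∀ W ∈ pairSet.{u}, IsCharPFunctor.{u} 2 W := by
  haveI : Fact (Nat.Prime 2) := ⟨Nat.prime_two⟩
  rintro W (rfl | rfl)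
  · refine ⟨fun Q _ _ hQ hnt e => ?_, fun Q R _ _ _ _ φ => ?_⟩
    · haveI := hQ.center_nontrivial
      exact (Subgroup.nontrivial_iff_ne_bot (Subgroup.center Q)).1 inferInstance e
    · ext x
      simp only [centerFunctor, Subgroup.mem_map, Subgroup.mem_center_iff]
      constructor
      · rintro ⟨y, hy, rfl⟩ g
        obtain ⟨h, rfl⟩ := φ.surjective g
        exact (map_mul φ _ _).symm.trans ((congrArg φ (hy h)).trans (map_mul φ _ _))
      · intro hx
        refine ⟨φ.symm x, fun g => φ.injective ?_, φ.apply_symm_apply x⟩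
        rw [map_mul, map_mul, φ.apply_symm_apply, hx]
  · refine ⟨fun Q _ _ hQ hnt e => ?_, fun Q R _ _ _ _ φ => map_thompsonSubgroup φ⟩
    have hQ' : IsPGroup 2 (⊤ : Subgroup Q) := hQ.of_equiv Subgroup.topEquiv.symm
    obtain ⟨z, hz, hz1, hz2⟩ := exists_central_of_order_p hQ' top_ne_bot
    obtain ⟨A, hA⟩ := exists_maxIn (Q := elemAb (G := Q) 2) elemAb_bot (⊤ : Subgroup Q)
    have hzA : z ∈ A := mem_of_centralizes hA trivial hz2 (Subgroup.centralizer_le le_top hz.2)
    refine hz1 (Subgroup.mem_bot.1 ((e : jFunctor Q = ⊥).le ?_))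
    rw [jFunctor, thompsonSubgroup_eq]
    exact le_sSup hA hzA

variable {G : Type u} [Group G]

theorem inducedFunctor_center (P : Subgroup G) :
    inducedFunctor centerFunctor P = P ⊓ Subgroup.centralizer (P : Set G) := by
  ext x
  simp only [inducedFunctor, centerFunctor, Subgroup.mem_map, Subgroup.mem_inf, Subgroup.mem_centralizer_iff,
    Subgroup.mem_center_iff]
  constructor
  · rintro ⟨y, hy, rfl⟩
    exact ⟨y.2, fun h hh => congrArg Subtype.val (hy ⟨h, hh⟩)⟩
  · rintro ⟨hx, hc⟩
    exact ⟨⟨x, hx⟩, fun g => Subtype.ext (hc g g.2), rfl⟩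

theorem image_pair :
    (fun W => inducedFunctor (G := G) W) '' pairSet.{u} =
      {fun P : Subgroup G => P ⊓ Subgroup.centralizer (P : Set G),
        fun P : Subgroup G => Cfsg.thompsonSubgroupOf 2 P} := by
  rw [pairSet, Set.image_pair, show inducedFunctor (G := G) centerFunctor =
    fun P : Subgroup G => P ⊓ Subgroup.centralizer (P : Set G) from funext inducedFunctor_center]
  rfl

/-- Forward direction. -/
theorem family_control [Finite G] (hfree : ¬ Cfsg.Involves (Equiv.Perm (Fin 4)) G) :
    Cfsg.FamilyControlsStrongFusionIn 2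
      ({fun P : Subgroup G => P ⊓ Subgroup.centralizer (P : Set G),
        fun P : Subgroup G => Cfsg.thompsonSubgroupOf 2 P} : Set (Subgroup G → Subgroup G)) ⊤ := by
  classical
  haveI : Fact (Nat.Prime 2) := ⟨Nat.prime_two⟩
  set S : Sylow 2 G := default
  refine ⟨S, le_top, S.2, by rw [Subgroup.relIndex_top_right]; exact S.not_dvd_index, fun A h _ hA hg => ?_⟩
  obtain ⟨m, hm, hme⟩ := pair_control hfree S hA hg
  obtain ⟨n, c, h0, hstep, hsub, hlast⟩ := hm.exists_chain
  refine ⟨n, c, h0, fun i => ?_, hsub, fun a ha => by rw [hlast]; exact hme a ha⟩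
  rcases hstep i with hi | hi
  · exact ⟨_, Or.inl rfl, trivial, hi⟩
  · exact ⟨_, Or.inr rfl, trivial, hi.1⟩

theorem section_free {H : Type*} [Group H] (hfree : ¬ Cfsg.Involves H G) (K R : Subgroup G)
    [(R.subgroupOf K).Normal] : ¬ Cfsg.Involves H (↥K ⧸ R.subgroupOf K) := fun h =>
  hfree (Involves.involves_of_subgroup
    (Involves.involves_of_surjective (QuotientGroup.mk' _) (QuotientGroup.mk'_surjective _) h))

end Cfsg.Agent.SFourControl
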