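import Cfsg.Agent.Lib.SFourControl.Apply
import Cfsg.Agent.Lib.FunctorControl.PairControl
import Cfsg.Agent.Lib.PLocal.FunctorFusion
import Cfsg.Agent.Lib.PLocal.Functor
import Cfsg.Agent.Lib.PReduced.Tools
import Cfsg.Agent.Lib.JComp.Base
import Cfsg.Agent.Lib.Involves.Basic

/-!
The centre and the Thompson subgroup control strong 2-fusion in an `S₄`-free group.

Main result (namespace `Cfsg.Agent.SFourControl`): `pair_control`: every fusion map inside a Sylow 2-subgroup `S`
is a composite of conjugations inside `N(Z(S))` and inside `N(J(S))`.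
-/

set_option autoImplicit false
set_option linter.unusedSectionVars false
set_option linter.style.haveILetI false

open scoped IsMulCommutative

namespace Cfsg.Agent.SFourControl

open AlperinFamily FunctorControl PLocal

universe u

section
variable {G : Type*} [Group G]

/-- The centre of `P`, inside `G`. -/
def centerIn (P : Subgroup G) : Subgroup G := P ⊓ Subgroup.centralizer (P : Set G)

/-- The centraliser of `J(P)` in `P`. -/
def centJ (P : Subgroup G) : Subgroup G :=
  P ⊓ Subgroup.centralizer (Cfsg.thompsonSubgroupOf 2 P : Set G)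

/-- The moves at `S`: the normaliser of the centre, or the common normaliser of `J(S)` and its centraliser. -/
def moves (S : Subgroup G) : Set G :=
  {z | z ∈ Subgroup.normalizer (centerIn S : Set G) ∨
    (z ∈ Subgroup.normalizer (Cfsg.thompsonSubgroupOf 2 S : Set G) ∧ z ∈ Subgroup.normalizer (centJ S : Set G))}

theorem inv_mem_moves {S : Subgroup G} : ∀ z ∈ moves S, z⁻¹ ∈ moves S :=
  fun _ h => h.imp inv_mem fun h => ⟨inv_mem h.1, inv_mem h.2⟩

theorem map_inf_centralizer {G' : Type*} [Group G'] (f : G →* G') (hf : Function.Injective f) (H K : Subgroup G) :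
    (H ⊓ Subgroup.centralizer (K : Set G)).map f =
      H.map f ⊓ Subgroup.centralizer ((K.map f : Subgroup G') : Set G') := by
  ext y
  constructor
  · rintro ⟨x, ⟨hx, hc⟩, rfl⟩
    refine ⟨⟨x, hx, rfl⟩, Subgroup.mem_centralizer_iff.2 ?_⟩
    rintro _ ⟨k, hk, rfl⟩
    rw [← map_mul, ← map_mul, Subgroup.mem_centralizer_iff.1 hc k hk]
  · rintro ⟨⟨x, hx, rfl⟩, hc⟩
    exact ⟨x, ⟨hx, Subgroup.mem_centralizer_iff.2 fun k hk =>
      hf (by rw [map_mul, map_mul, Subgroup.mem_centralizer_iff.1 hc _ ⟨k, hk, rfl⟩])⟩, rfl⟩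

theorem map_centJ {G' : Type*} [Group G'] (f : G →* G') (hf : Function.Injective f) (P : Subgroup G) :
    (centJ P).map f = centJ (P.map f) := by
  rw [centJ, centJ, map_inf_centralizer f hf, map_thompsonSubgroupOf f hf.injOn]

theorem map_centerIn {G' : Type*} [Group G'] (f : G →* G') (hf : Function.Injective f) (P : Subgroup G) :
    (centerIn P).map f = centerIn (P.map f) :=
  map_inf_centralizer f hf P P

/-- `J(P) C_P(J(P))`: a conjugacy functor containing the centre. -/
def hullJ (P : Subgroup G) : Subgroup G := Cfsg.thompsonSubgroupOf 2 P ⊔ centJ P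

theorem centerIn_le_centJ (P : Subgroup G) : centerIn P ≤ centJ P :=
  inf_le_inf_left _ (Subgroup.centralizer_le (thompsonSubgroupOf_le P))

theorem centerIn_le_hullJ (P : Subgroup G) : centerIn P ≤ hullJ P :=
  (centerIn_le_centJ P).trans le_sup_right

theorem centerIn_ne_bot [Finite G] {P : Subgroup G} (hP : IsPGroup 2 P) (hne : P ≠ ⊥) : centerIn P ≠ ⊥ := by
  haveI : Fact (Nat.Prime 2) := ⟨Nat.prime_two⟩
  obtain ⟨z, hz, hz1, -⟩ := exists_central_of_order_p hP hne
  exact fun h => hz1 (Subgroup.mem_bot.1 (h.le hz))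

theorem isConjugacyFunctor_centerIn [Finite G] : Cfsg.IsConjugacyFunctor 2 (centerIn : Subgroup G → Subgroup G) :=
  fun P hP => ⟨inf_le_left, centerIn_ne_bot hP, fun g => (map_centerIn _ (MulAut.conj g).injective P).symm⟩

theorem isConjugacyFunctor_hullJ [Finite G] : Cfsg.IsConjugacyFunctor 2 (hullJ : Subgroup G → Subgroup G) :=
  fun P hP => ⟨sup_le (thompsonSubgroupOf_le P) inf_le_left,
    fun hne h => centerIn_ne_bot hP hne (le_bot_iff.1 ((centerIn_le_hullJ P).trans h.le)), fun g => by
      rw [hullJ, hullJ, Subgroup.map_sup, map_centJ _ (MulAut.conj g).injective,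
        map_conj_thompsonSubgroupOf]⟩

end

section
variable {G : Type*} [Group G] [Finite G]

/-- `C(V)` centralises the centre of `S`, for `V` generated by the conjugates of its involutions. -/
theorem fixes_center (S : Sylow 2 G) {V0 C : Subgroup G} [V0.Normal] [C.Normal]
    (hV0 : V0 ≤ Subgroup.centralizer (V0 : Set G)) (hV0S : V0 ≤ (S : Subgroup G))
    (hZ : centerIn (S : Subgroup G) ≤ V0)
    (hinv : ∀ z ∈ centerIn (S : Subgroup G), z * z = 1 → ∀ c ∈ C, c * z = z * c) :
    ∀ z ∈ centerIn (S : Subgroup G), ∀ c ∈ C, c * z = z * c := by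
  classical
  haveI : Fact (Nat.Prime 2) := ⟨Nat.prime_two⟩
  haveI : IsMulCommutative V0 := Subgroup.le_centralizer_iff_isMulCommutative.1 hV0
  suffices key : ∀ k : ℕ, ∀ z ∈ centerIn (S : Subgroup G), z ^ (2 ^ k) = 1 → ∀ c ∈ C, c * z = z * c by
    intro z hz c hc
    obtain ⟨k, hk⟩ := S.isPGroup' ⟨z, hz.1⟩
    exact key k z hz (congrArg Subtype.val hk) c hc
  intro k
  induction k with
  | zero =>
    intro z _ hzk c _
    rw [pow_zero, pow_one] at hzk
    rw [hzk, mul_one, one_mul]
  | succ k ih =>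
    intro z hz hzk c hc
    have hsq : ∀ d ∈ C, d * (z * z) = z * z * d := by
      refine ih (z * z) (mul_mem hz hz) ?_
      rw [← pow_two, ← pow_mul, ← pow_succ']
      exact hzk
    let zV : V0 := ⟨z, hZ hz⟩
    let α : G →* MulAut V0 := MulAut.conjNormal
    have hα : ∀ (g : G) (v : V0), ((α g v : V0) : G) = g * v * g⁻¹ := fun g v => MulAut.conjNormal_apply g v
    set K := (Subgroup.centralizer ({z} : Set G)).subgroupOf C with hK
    let φ : ↥C ⧸ K → V0 := Quotient.lift (fun d : C => α (d : G) zV) fun a b hab => by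
      have h1 : a⁻¹ * b ∈ K := QuotientGroup.leftRel_apply.1 hab
      have h2 := Subgroup.mem_centralizer_iff.1 (Subgroup.mem_subgroupOf.1 h1) z rfl
      refine Subtype.ext ?_
      rw [hα, hα]
      have h3 : (b : G) = a * ((a⁻¹ * b : C) : G) := by
        rw [Subgroup.coe_mul, Subgroup.coe_inv, mul_inv_cancel_left]
      show (a : G) * z * (a : G)⁻¹ = b * z * (b : G)⁻¹
      rw [h3, mul_inv_rev, ← mul_assoc, mul_assoc (a : G) _ z, ← h2]
      group
    have hφinj : Function.Injective φ := by
      intro x y hxy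
      induction x using Quotient.inductionOn' with
      | h a =>
        induction y using Quotient.inductionOn' with
        | h b =>
          refine Quotient.sound' ?_
          rw [QuotientGroup.leftRel_apply, hK, Subgroup.mem_subgroupOf, Subgroup.mem_centralizer_iff]
          rintro w rfl
          have h1 : (a : G) * w * (a : G)⁻¹ = b * w * (b : G)⁻¹ := by
            have hxy' : α (a : G) zV = α (b : G) zV := hxy
            have := congrArg Subtype.val hxy'
            rwa [hα, hα] at this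
          rw [Subgroup.coe_mul, Subgroup.coe_inv]
          calc w * ((a : G)⁻¹ * b) = (a : G)⁻¹ * (a * w * (a : G)⁻¹) * b := by group
            _ = (a : G)⁻¹ * b * w := by rw [h1]; group
    haveI : Fintype (↥C ⧸ K) := Fintype.ofFinite _
    set O := Finset.univ.image φ with hO
    set σ : V0 := ∏ v ∈ O, v with hσ
    -- whatever permutes the orbit fixes the product
    have hperm : ∀ g : G, (∀ d : C, ∃ d' : C, g * ((d : G) * z * (d : G)⁻¹) * g⁻¹ = d' * z * (d' : G)⁻¹) →
        g * (σ : G) = σ * g := by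
      intro g hg
      have h1 : O.image (α g) = O := by
        refine Finset.eq_of_subset_of_card_le ?_ (le_of_eq (Finset.card_image_of_injective _ (α g).injective).symm)
        intro v hv
        simp only [hO, Finset.mem_image, Finset.mem_univ, true_and] at hv ⊢
        obtain ⟨_, ⟨x, rfl⟩, rfl⟩ := hv
        induction x using Quotient.inductionOn' with
        | h d =>
          obtain ⟨d', hd'⟩ := hg d
          refine ⟨Quotient.mk'' d', Subtype.ext ?_⟩
          show ((α (d' : G) zV : V0) : G) = (α g (α (d : G) zV) : V0)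
          rw [hα, hα, hα]
          exact hd'.symm
      have h2 : α g σ = σ := by
        rw [hσ, map_prod, ← Finset.prod_image (f := fun v : V0 => v) (fun _ _ _ _ h => (α g).injective h), h1]
      have h3 := hα g σ
      rw [h2] at h3
      exact (mul_inv_eq_iff_eq_mul.1 h3.symm)
    have hσC : ∀ d ∈ C, d * (σ : G) = σ * d := fun d hd => hperm d fun e =>
      ⟨⟨d, hd⟩ * e, by rw [Subgroup.coe_mul]; group⟩
    have hσZ : (σ : G) ∈ centerIn (S : Subgroup G) := by
      refine ⟨hV0S σ.2, Subgroup.mem_centralizer_iff.2 fun s hs => hperm s fun e => ?_⟩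
      refine ⟨⟨s * e * s⁻¹, ‹C.Normal›.conj_mem e e.2 s⟩, ?_⟩
      have hsz : s * z = z * s := Subgroup.mem_centralizer_iff.1 hz.2 s hs
      have : s⁻¹ * z * s = z := by rw [mul_assoc, ← hsz, inv_mul_cancel_left]
      calc s * ((e : G) * z * (e : G)⁻¹) * s⁻¹ = s * e * (s⁻¹ * (s * z)) * (e : G)⁻¹ * s⁻¹ := by group
        _ = s * e * (s⁻¹ * (z * s)) * (e : G)⁻¹ * s⁻¹ := by rw [hsz]
        _ = _ := by group
    -- the orbit has odd length
    have hodd : ¬ 2 ∣ O.card := by
      rw [hO, Finset.card_image_of_injective _ hφinj, Finset.card_univ, ← Nat.card_eq_fintype_card]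
      show ¬ 2 ∣ K.index
      have hsyl : ¬ 2 ∣ ((S : Subgroup G) ⊓ C).relIndex C := by
        have h := (PReduced.sylowOfSubnormal S (Subgroup.Normal.isSubnormal ‹C.Normal›)).not_dvd_index
        rw [PReduced.sylowOfSubnormal_coe] at h
        rwa [Subgroup.inf_relIndex_right]
      intro h
      refine hsyl (h.trans ?_)
      refine Subgroup.index_dvd_of_le fun d hd => ?_
      rw [Subgroup.mem_subgroupOf] at hd ⊢
      refine Subgroup.mem_centralizer_iff.2 ?_
      rintro w rfl
      exact (Subgroup.mem_centralizer_iff.1 hz.2 _ hd.1).symm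
    obtain ⟨m, hm⟩ : ∃ m, O.card = 2 * m + 1 := ⟨O.card / 2, by omega⟩
    -- `σ z^(-|O|)` is an involution of the centre
    have hsquare : σ * σ = (zV * zV) ^ O.card := by
      rw [hσ, ← Finset.prod_mul_distrib, ← Finset.prod_const]
      refine Finset.prod_congr rfl fun v hv => ?_
      simp only [hO, Finset.mem_image, Finset.mem_univ, true_and] at hv
      obtain ⟨x, rfl⟩ := hv
      induction x using Quotient.inductionOn' with
      | h d =>
        refine Subtype.ext ?_
        show ((α (d : G) zV : V0) : G) * (α (d : G) zV : V0) = z * z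
        rw [hα]
        calc (d : G) * z * (d : G)⁻¹ * ((d : G) * z * (d : G)⁻¹) = (d : G) * (z * z) * (d : G)⁻¹ := by group
          _ = z * z := by rw [hsq d d.2, mul_inv_cancel_right]
    set d : V0 := σ * (zV ^ O.card)⁻¹ with hd
    have hd2 : d * d = 1 := by
      rw [hd, mul_mul_mul_comm, hsquare, ← mul_inv, ← mul_pow, mul_inv_cancel]
    have hdC : c * (d : G) = d * c := by
      refine hinv _ ?_ (congrArg Subtype.val hd2) c hc
      rw [hd, Subgroup.coe_mul, Subgroup.coe_inv, Subgroup.coe_pow]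
      exact mul_mem hσZ (inv_mem (pow_mem hz _))
    have hzm : c * z ^ O.card = z ^ O.card * c := by
      have e : (d : G)⁻¹ * σ = z ^ O.card := by
        rw [hd, Subgroup.coe_mul, Subgroup.coe_inv, Subgroup.coe_pow, mul_inv_rev, inv_inv, inv_mul_cancel_right]
      rw [← e]
      exact (Commute.inv_right (hdC : Commute c d)).mul_right (hσC c hc : Commute c (σ : G))
    have hz2 : Commute c ((z * z) ^ m) := Commute.pow_right (hsq c hc : Commute c (z * z)) m
    have e : z = ((z * z) ^ m)⁻¹ * z ^ O.card := by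
      rw [hm, pow_succ, pow_mul, pow_two, inv_mul_cancel_left]
    rw [e]
    exact hz2.inv_right.mul_right (hzm : Commute c (z ^ O.card))

/-- Fusion when a normal subgroup contains the centre of the Sylow subgroup. -/
theorem reach_of_normal (hfree : ¬ Cfsg.Involves (Equiv.Perm (Fin 4)) G) (S : Sylow 2 G) {U : Subgroup G}
    [U.Normal] (hUS : U ≤ (S : Subgroup G)) (hZU : centerIn (S : Subgroup G) ≤ U) {A : Set G} {g : G}
    (hA : A ⊆ (S : Subgroup G)) (hg : (fun a => g * a * g⁻¹) '' A ⊆ (S : Subgroup G)) :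
    Reach (moves (S : Subgroup G)) (S : Subgroup G) A g := by
  classical
  haveI : Fact (Nat.Prime 2) := ⟨Nat.prime_two⟩
  set Z := centerIn (S : Subgroup G) with hZdef
  set V0 := Subgroup.normalClosure (Z : Set G) with hV0def
  have hV0U : V0 ≤ U ⊓ Subgroup.centralizer (U : Set G) :=
    Subgroup.normalClosure_le_normal fun z hz => ⟨hZU hz, Subgroup.centralizer_le hUS hz.2⟩
  have hV0S : V0 ≤ (S : Subgroup G) := hV0U.trans (inf_le_left.trans hUS)
  have hV0ab : V0 ≤ Subgroup.centralizer (V0 : Set G) :=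
    hV0U.trans (inf_le_right.trans (Subgroup.centralizer_le (hV0U.trans inf_le_left)))
  set s := {z : G | z ∈ Z ∧ z * z = 1} with hs
  set V := Subgroup.normalClosure s with hVdef
  have hVV0 : V ≤ V0 := Subgroup.normalClosure_mono fun z hz => hz.1
  have hconj : ∀ v ∈ Group.conjugatesOfSet s, ∃ z ∈ s, ∃ x : G, x * z * x⁻¹ = v := fun v hv => by
    obtain ⟨z, hz, hzv⟩ := Group.mem_conjugatesOfSet_iff.1 hv
    obtain ⟨x, hx⟩ := isConj_iff.1 hzv
    exact ⟨z, hz, x, hx⟩
  have hVel : Cfsg.IsElementaryAbelian 2 V := by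
    refine elemAb_closure (fun v hv w hw => ?_) fun v hv => ?_
    · exact (Subgroup.mem_centralizer_iff.1 (hV0ab (hVV0 (Subgroup.subset_closure hw))) v
        (hVV0 (Subgroup.subset_closure hv)))
    · obtain ⟨z, hz, x, rfl⟩ := hconj v hv
      rw [pow_two, show x * z * x⁻¹ * (x * z * x⁻¹) = x * (z * z) * x⁻¹ by group, hz.2, mul_one, mul_inv_cancel]
  have hgen : V = Subgroup.closure
      {v | v ∈ V ∧ ∃ T : Sylow 2 G, ∀ t ∈ (T : Subgroup G), t * v = v * t} := by
    refine le_antisymm ((Subgroup.closure_le _).2 fun v hv => ?_) ((Subgroup.closure_le _).2 fun v hv => hv.1)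
    refine Subgroup.subset_closure ⟨Subgroup.subset_closure hv, ?_⟩
    obtain ⟨z, hz, x, rfl⟩ := hconj v hv
    refine ⟨x • S, fun t ht => ?_⟩
    rw [Sylow.coe_subgroup_smul] at ht
    obtain ⟨u, hu, rfl⟩ := ht
    show x * u * x⁻¹ * (x * z * x⁻¹) = x * z * x⁻¹ * (x * u * x⁻¹)
    calc _ = x * (u * z) * x⁻¹ := by group
      _ = x * (z * u) * x⁻¹ := by rw [Subgroup.mem_centralizer_iff.1 hz.1.2 u hu]
      _ = _ := by group
  have hVS : V ≤ (S : Subgroup G) := hVV0.trans hV0S
  set C := Subgroup.centralizer (V : Set G) with hCdef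
  -- the maximal elementary abelian subgroups centralise `V` and contain it
  have hAC : ∀ A ∈ maxIn (elemAb 2) (S : Subgroup G), A ≤ C := by
    intro A hA
    refine bestOffender_centralizes hfree hVel ⟨fun B hB => ?_, ?_, fun a ha => ?_⟩ hgen
    · set W := V ⊓ Subgroup.centralizer (B : Set G)
      have hBel : Cfsg.IsElementaryAbelian 2 B := elemAb_mono hA.2.1 hB
      have hBW : B ≤ Subgroup.centralizer (W : Set G) := le_centralizer_comm inf_le_right
      have h1 : Nat.card ↥(W ⊔ B) ≤ Nat.card A :=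
        hA.2.2 _ (sup_le (inf_le_left.trans hVS) (hB.trans hA.1))
          (elemAb_sup (elemAb_mono hVel inf_le_left) hBel inf_le_right)
      have h2 : Nat.card ↥(W ⊔ B) * Nat.card ↥(W ⊓ B) = Nat.card W * Nat.card B :=
        card_sup_mul_card_inf (hBW.trans (Subgroup.centralizer_le_normalizer _))
      have h3 : Nat.card ↥(W ⊓ B) ≤ Nat.card ↥(V ⊓ Subgroup.centralizer (A : Set G)) :=
        Subgroup.card_le_of_le (le_inf (inf_le_left.trans inf_le_left)
          ((inf_le_right : W ⊓ B ≤ B).trans (hB.trans (elemAb_le_centralizer hA.2.1))))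
      rw [mul_comm, ← h2]
      exact Nat.mul_le_mul h1 h3
    · rw [Subgroup.commutator_eq_bot_iff_le_centralizer.2 (elemAb_le_centralizer hA.2.1)]
      exact bot_le
    · rw [hA.2.1.2 a ha]
      exact one_mem _
  obtain ⟨A₀, hA₀⟩ := exists_maxIn (Q := elemAb (G := G) 2) elemAb_bot (S : Subgroup G)
  have hJC : Cfsg.thompsonSubgroupOf 2 (S : Subgroup G) ≤ C := by
    rw [thompsonSubgroupOf_eq]
    exact sSup_le hAC
  have hVJ : V ≤ Cfsg.thompsonSubgroupOf 2 (S : Subgroup G) := by
    refine le_trans ?_ (JComp.le_jOf hA₀)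
    intro v hv
    refine mem_of_centralizes hA₀ (hVS hv) (hVel.2 v hv) (Subgroup.mem_centralizer_iff.2 fun a ha => ?_)
    exact (Subgroup.mem_centralizer_iff.1 (hAC A₀ hA₀ ha) v hv).symm
  set Q := (S : Subgroup G) ⊓ C
  set M := Subgroup.normalizer (Q : Set G)
  have hJQ : Cfsg.thompsonSubgroupOf 2 Q = Cfsg.thompsonSubgroupOf 2 (S : Subgroup G) :=
    JComp.jOf_eq_of_between (le_inf (thompsonSubgroupOf_le _) hJC) inf_le_left
  have hXQ : centJ Q = centJ (S : Subgroup G) := by
    refine le_antisymm ?_ ?_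
    · rw [centJ, centJ, hJQ]
      exact inf_le_inf_right _ inf_le_left
    · rw [centJ, centJ, hJQ]
      exact le_inf (le_inf inf_le_left (inf_le_right.trans (Subgroup.centralizer_le hVJ))) inf_le_right
  have hMmoves : ∀ n ∈ M, n ∈ moves (S : Subgroup G) := fun n hn => Or.inr ⟨hJQ ▸
      normalizer_le_normalizer_thompsonSubgroupOf Q hn, hXQ ▸ by
      rw [PLocal.mem_normalizer_iff_map_eq, map_centJ _ (MulAut.conj n).injective,
        PLocal.mem_normalizer_iff_map_eq.1 hn]⟩
  have hCfix := fixes_center S (C := C) hV0ab hV0S Subgroup.le_normalClosure fun z hz hz2 c hc =>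
    (Subgroup.mem_centralizer_iff.1 hc z (Subgroup.subset_normalClosure (show z ∈ s from ⟨hz, hz2⟩))).symm
  have hCmoves : ∀ c ∈ C, c ∈ moves (S : Subgroup G) := fun c hc => Or.inl
    ((Subgroup.centralizer_le_normalizer _) (Subgroup.mem_centralizer_iff.2 fun z hz => (hCfix z hz c hc).symm))
  have hSM : (S : Subgroup G) ≤ M := fun x hx => by
    rw [PLocal.mem_normalizer_iff_map_eq]
    show cj x ((S : Subgroup G) ⊓ C) = (S : Subgroup G) ⊓ C
    rw [cj_inf, cj_eq_iff.2 (Subgroup.le_normalizer hx), cj_eq_iff.2]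
    rw [Subgroup.normalizer_eq_top C]
    trivial
  obtain ⟨a, ha, c₀, hc₀, rfl⟩ := PReduced.frattini_sylow_inf_mul S C g
  set c := a * c₀ * a⁻¹
  have hc : c ∈ C := (inferInstance : C.Normal).conj_mem c₀ hc₀ a
  have hca : a * c₀ = c * a := by simp only [c]; group
  rw [hca] at hg ⊢
  obtain ⟨c', hc', hc'M, hc'S⟩ := PLocal.exists_adjust S (C := C) hSM
    ((Subgroup.closure_le _).2 hA) hc (n := a) ha (by
      rw [Subgroup.map_le_iff_le_comap, Subgroup.closure_le]
      exact fun x hx => hg ⟨x, hx, rfl⟩)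
  have h1 : (fun x => c' * a * 1 * x * (c' * a * 1)⁻¹) '' A ⊆ (S : Subgroup G) := by
    rintro _ ⟨x, hx, rfl⟩
    simp only [mul_one]
    exact hc'S ⟨x, Subgroup.subset_closure hx, rfl⟩
  refine ⟨c * c'⁻¹ * (c' * a * 1), Moves.step (c * c'⁻¹) (Moves.step (c' * a) (Moves.refl hA)
    (hMmoves _ hc'M) h1) (hCmoves _ (mul_mem hc (inv_mem hc'))) ?_, fun x _ => by group⟩
  rintro _ ⟨x, hx, rfl⟩
  have h2 := hg ⟨x, hx, rfl⟩
  simp only [SetLike.mem_coe] at h2 ⊢
  convert h2 using 1
  group

/-- Moves in a subgroup `H`, seen in `G`. -/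
theorem reach_of_subgroup {L : Set G} {S : Subgroup G} {H : Subgroup G} {R' : Subgroup ↥H}
    (hRS : R'.map H.subtype ≤ S)
    (hmove : ∀ (B : Set G) (z : ↥H), z ∈ moves R' → B ⊆ (R'.map H.subtype : Subgroup G) →
      (fun a => (z : G) * a * (z : G)⁻¹) '' B ⊆ (R'.map H.subtype : Subgroup G) → Reach L S B z)
    {A : Set ↥H} {c : ↥H} (h : Moves (moves R') R' A c) : Reach L S (H.subtype '' A) c := by
  induction h with
  | refl hA =>
    rw [OneMemClass.coe_one]
    refine Reach.refl ?_
    rintro _ ⟨x, hx, rfl⟩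
    exact hRS ⟨x, hA hx, rfl⟩
  | @step e z h hz hS ih =>
    rw [Subgroup.coe_mul]
    refine ih.comp (hmove _ z hz ?_ ?_)
    · rintro _ ⟨_, ⟨x, hx, rfl⟩, rfl⟩
      exact ⟨e * x * e⁻¹, h.image_subset ⟨x, hx, rfl⟩, rfl⟩
    · rintro _ ⟨_, ⟨_, ⟨x, hx, rfl⟩, rfl⟩, rfl⟩
      refine ⟨z * e * x * (z * e)⁻¹, hS ⟨x, hx, rfl⟩, ?_⟩
      simp only [Subgroup.coe_subtype, Subgroup.coe_mul, Subgroup.coe_inv]
      group

end

/-- **The centre and the Thompson subgroup control strong fusion** in an `S₄`-free group. -/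
theorem pair_control {G : Type u} [Group G] [Finite G] (hfree : ¬ Cfsg.Involves (Equiv.Perm (Fin 4)) G)
    (S : Sylow 2 G) {A : Set G} {g : G} (hA : A ⊆ (S : Subgroup G))
    (hg : (fun a => g * a * g⁻¹) '' A ⊆ (S : Subgroup G)) :
    Reach (moves (S : Subgroup G)) (S : Subgroup G) A g := by
  classical
  haveI : Fact (Nat.Prime 2) := ⟨Nat.prime_two⟩
  induction hn : Nat.card G using Nat.strong_induction_on generalizing G with
  | _ n ihn =>
  subst hn
  set L := moves (S : Subgroup G) with hLdef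
  let Φ : Subgroup G → G → Prop := fun T g => Reach L (S : Subgroup G) (T : Set G) g
  let Ψ : Subgroup G → Prop := fun U => ∀ (B : Set G) (z : G),
    B ⊆ ((S : Subgroup G) ⊓ Subgroup.normalizer (U : Set G) : Subgroup G) → z ∈ Subgroup.normalizer (U : Set G) →
    (fun a => z * a * z⁻¹) '' B ⊆ (S : Subgroup G) → Reach L (S : Subgroup G) B z
  have himg : ∀ (g : G) (T : Subgroup G), (fun a => g * a * g⁻¹) '' (T : Set G) = (cj g T : Set G) := by
    intro g T
    ext z
    simp
  have hdir : ∀ (A : Set G) (z : G), z ∈ L → A ⊆ (S : Subgroup G) →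
      (fun a => z * a * z⁻¹) '' A ⊆ (S : Subgroup G) → Reach L (S : Subgroup G) A z := fun A z hz hA hzA =>
    ⟨z, by simpa using Moves.step z (Moves.refl (L := L) hA) hz (by simpa using hzA), fun _ _ => rfl⟩
  have key : ∀ (T : Subgroup G) (g : G), T ≤ (S : Subgroup G) → cj g T ≤ (S : Subgroup G) → Φ T g := by
    intro T g hT hg
    refine pair_induction S Φ Ψ ?_ ?_ ?_ ?_ ?_ ?_ ?_ ?_ hT hg
    · intro g hg
      refine hdir _ g (Or.inl (normalizer_le_normalizer_functor isConjugacyFunctor_centerIn S.isPGroup' hg))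
        subset_rfl ?_
      rw [himg, cj_eq_iff.2 hg]
    · exact fun T T' g h _ hΦ => hΦ.mono h
    · intro T g g' h h'
      refine Reach.comp h ?_
      rw [himg]
      exact h'
    · intro T g _ _ h
      have := h.inv inv_mem_moves
      rwa [himg] at this
    · exact fun T g g' he h => h.congr he
    · intro U hU hΨ T hT k hkU hkT
      refine hΨ _ k hT hkU ?_
      rw [himg, cj_eq_iff.2 hkT]
      exact hT.trans inf_le_left
    · intro U hU hfn IH B z hB hz hzB
      set R := (S : Subgroup G) ⊓ Subgroup.normalizer (U : Set G) with hR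
      have hRp : IsPGroup 2 R := S.isPGroup'.to_inf_left
      by_cases htop : Subgroup.normalizer (U : Set G) = ⊤
      · haveI := Subgroup.normalizer_eq_top_iff.1 htop
        exact reach_of_normal hfree S hU.1 hU.center_le (hB.trans fun a ha => ha.1) hzB
      set H := Subgroup.normalizer (U : Set G) with hH
      obtain ⟨R', hR'⟩ := (Fusion.isSylowIn_iff_exists inf_le_right).1 (isSylowIn_of_fn S.isPGroup' hfn)
      have hmap : (R' : Subgroup ↥H).map H.subtype = R := by
        rw [hR', Subgroup.map_subgroupOf_eq_of_le inf_le_right]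
      have hlt : Nat.card ↥H < Nat.card G :=
        lt_of_le_of_ne (Subgroup.card_le_card_group H) fun h => htop (Subgroup.eq_top_of_card_eq H h)
      have hfreeH : ¬ Cfsg.Involves (Equiv.Perm (Fin 4)) ↥H := fun h => hfree (Involves.involves_of_subgroup h)
      have hB' : (H.subtype ⁻¹' B) ⊆ ((R' : Subgroup ↥H) : Set ↥H) := fun x hx => by
        rw [hR']
        exact hB hx
      have hzB' : (fun a => (⟨z, hz⟩ : ↥H) * a * (⟨z, hz⟩ : ↥H)⁻¹) '' (H.subtype ⁻¹' B) ⊆
          ((R' : Subgroup ↥H) : Set ↥H) := by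
        rintro _ ⟨x, hx, rfl⟩
        rw [hR']
        exact ⟨hzB ⟨x, hx, rfl⟩, ((⟨z, hz⟩ : ↥H) * x * (⟨z, hz⟩ : ↥H)⁻¹).2⟩
      obtain ⟨c, hc, hce⟩ := ihn _ hlt hfreeH R' hB' hzB' rfl
      have hB'' : H.subtype '' (H.subtype ⁻¹' B) = B :=
        Set.image_preimage_eq_of_subset fun x hx => ⟨⟨x, (hB hx).2⟩, rfl⟩
      have h1 : Reach L (S : Subgroup G) (H.subtype '' (H.subtype ⁻¹' B)) c := by
        refine reach_of_subgroup (by rw [hmap]; exact inf_le_left) (fun D w hw hD hwD => ?_) hc
        rw [hmap] at hD hwD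
        have hDS : D ⊆ (S : Subgroup G) := hD.trans fun a ha => ha.1
        have hwS : (fun a => (w : G) * a * (w : G)⁻¹) '' D ⊆ (S : Subgroup G) := hwD.trans fun a ha => ha.1
        have hN : ∀ {K : Subgroup ↥H}, w ∈ Subgroup.normalizer (K : Set ↥H) →
            (w : G) ∈ Subgroup.normalizer ((K.map H.subtype : Subgroup G) : Set G) := fun hK =>
          Subgroup.le_normalizer_map H.subtype ⟨w, hK, rfl⟩
        have hw' : (w : G) ∈ moves R := by
          rcases hw with hw | ⟨hw1, hw2⟩
          · left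
            have := hN hw
            rwa [map_centerIn _ H.subtype_injective, hmap] at this
          · right
            have h1 := hN hw1
            have h2 := hN hw2
            rw [map_thompsonSubgroupOf _ H.subtype_injective.injOn, hmap] at h1
            rw [map_centJ _ H.subtype_injective, hmap] at h2
            exact ⟨h1, h2⟩
        by_cases hRS : R = (S : Subgroup G)
        · exact hdir _ _ (show (w : G) ∈ moves (S : Subgroup G) by rw [← hRS]; exact hw') hDS hwS
        rcases hw' with hw' | ⟨hw1, hw2⟩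
        · obtain ⟨hgood, hlt'⟩ := goodSub_functor S isConjugacyFunctor_centerIn (fun _ _ => le_rfl) hU hRS
          exact IH _ hgood (Set.ncard_lt_ncard hlt' (Set.toFinite _)) D w (hD.trans hlt'.le) hw' hwS
        · obtain ⟨hgood, hlt'⟩ := goodSub_functor S isConjugacyFunctor_hullJ
            (fun P _ => centerIn_le_hullJ P) hU hRS
          refine IH _ hgood (Set.ncard_lt_ncard hlt' (Set.toFinite _)) D w (hD.trans hlt'.le) ?_ hwS
          rw [← cj_eq_iff, hullJ, cj, Subgroup.map_sup]
          exact congrArg₂ (· ⊔ ·) (cj_eq_iff.2 hw1) (cj_eq_iff.2 hw2)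
      rw [hB''] at h1
      refine h1.congr fun a ha => ?_
      have := congrArg Subtype.val (hce ⟨a, (hB ha).2⟩ ha)
      simpa using this
    · intro U h hU hh hΦ hΨ B z hB hz hzB
      have hzB' : (fun a => z * a * z⁻¹) '' B ⊆
          ((S : Subgroup G) ⊓ Subgroup.normalizer (U : Set G) : Subgroup G) := by
        rintro _ ⟨a, ha, rfl⟩
        exact ⟨hzB ⟨a, ha, rfl⟩, Subgroup.mul_mem _ (Subgroup.mul_mem _ hz (hB ha).2) (Subgroup.inv_mem _ hz)⟩
      have h1 : Reach L (S : Subgroup G) B h := hΦ.mono hB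
      have h2 : Reach L (S : Subgroup G) ((fun a => h * a * h⁻¹) '' B) (h * z * h⁻¹) := by
        refine hΨ _ _ ?_ ?_ ?_
        · rintro _ ⟨a, ha, rfl⟩
          exact ⟨hh ⟨a, hB ha, rfl⟩, cj_le_normalizer h inf_le_right ⟨a, hB ha, rfl⟩⟩
        · rw [← cj_normalizer]
          exact conj_mem_cj h hz
        · rintro _ ⟨_, ⟨a, ha, rfl⟩, rfl⟩
          have := hh ⟨z * a * z⁻¹, hzB' ⟨a, ha, rfl⟩, rfl⟩
          simp only [SetLike.mem_coe] at this ⊢
          convert this using 1
          show h * z * h⁻¹ * (h * a * h⁻¹) * (h * z * h⁻¹)⁻¹ = h * (z * a * z⁻¹) * h⁻¹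
          group
      have h12 := h1.comp h2
      rw [show h * z * h⁻¹ * h = h * z by group] at h12
      have h3 : Reach L (S : Subgroup G) ((fun a => h * z * a * (h * z)⁻¹) '' B) h⁻¹ := by
        have h5 := ((hΦ.mono hzB') : Reach L (S : Subgroup G) _ h).inv inv_mem_moves
        rw [Set.image_image] at h5
        convert h5 using 2
        group
      have := h12.comp h3
      rwa [show h⁻¹ * (h * z) = z by group] at this
  have hA' : Subgroup.closure A ≤ (S : Subgroup G) := (Subgroup.closure_le _).2 hA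
  refine (key (Subgroup.closure A) g hA' ?_).mono Subgroup.subset_closure
  rw [cj, Subgroup.map_le_iff_le_comap, Subgroup.closure_le]
  exact fun x hx => hg ⟨x, hx, rfl⟩

end Cfsg.Agent.SFourControl
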